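import Mathlib
import Groth.Agent.Lib.Helper7.SHens.Fibre
import Groth.Agent.Lib.Helper7.SHens.Normal
import Groth.Agent.Lib.Helper7.SHens.BaseChange
import Groth.Agent.Lib.Helper7.SHens.StrictLocal
import Groth.Agent.Lib.Helper7.SHens.Abstract
import Groth.Agent.Lib.Helper7.IndSmooth.Main

/-!
# Extending a finite etale algebra over the fraction field of a normal local domain which
splits over the fraction field of the strict henselization (algebraic core)
-/

set_option linter.style.haveILetI false
set_option linter.unusedVariables false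
set_option linter.unusedSectionVars false
set_option autoImplicit false
set_option backward.isDefEq.respectTransparency.types false
set_option synthInstance.maxHeartbeats 400000
set_option maxHeartbeats 1600000

open TensorProduct

namespace Groth.Agent.Helper7.SplitExt

universe u

open Groth.Agent.Helper7.SHens Groth.Agent.Helper7.IndSmooth

section GSurj

variable {A : Type u} [CommRing A] {Ω : Type u} [CommRing Ω] [Algebra A Ω]
  (B : Type u) [CommRing B] [Algebra A B]

theorem comm_map_ιAlg (U : Nbhd A Ω) (z : U.Ring ⊗[A] B) :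
    tι B U (Algebra.TensorProduct.comm A U.Ring B z) =
      Algebra.TensorProduct.comm A (G A Ω) B
        (Algebra.TensorProduct.map (ιAlg U) (AlgHom.id A B) z) := by
  induction z with
  | zero => simp
  | tmul x b => simp [tι_tmul]
  | add a b ha hb => rw [map_add, map_add, map_add, map_add, ha, hb]

theorem comm_tmap {U V : Nbhd A Ω} (f : U ⟶ V) (z : U.Ring ⊗[A] B) :
    tmap B f (Algebra.TensorProduct.comm A U.Ring B z) =
      Algebra.TensorProduct.comm A V.Ring B
        (Algebra.TensorProduct.map (Nbhd.Hom.toAlgHom f) (AlgHom.id A B) z) := by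
  induction z with
  | zero => simp
  | tmul x b => simp [tmap_tmul]
  | add a b ha hb => rw [map_add, map_add, map_add, map_add, ha, hb]

theorem surjective_toIntegralClosure_G :
    Function.Surjective (TensorProduct.toIntegralClosure A (G A Ω) B) := by
  classical
  rintro ⟨y, hy⟩
  obtain ⟨n, s, b, hsum⟩ := TensorProduct.exists_sum_tmul_eq y
  obtain ⟨p, hp, hpy⟩ := hy
  obtain ⟨d, hd⟩ : ∃ d, d = p.natDegree := ⟨_, rfl⟩
  obtain ⟨U, -, x, hx⟩ := exists_rep_fin (Nbhd.base A Ω)
    (Fin.append s (fun k : Fin d => p.coeff (k : ℕ)))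
  let g : U.Ring →ₐ[A] G A Ω := ιAlg U
  let yU : U.Ring ⊗[A] B := ∑ j, x (Fin.castAdd d j) ⊗ₜ[A] b j
  let pU : Polynomial U.Ring := Polynomial.X ^ d +
    ∑ k : Fin d, Polynomial.C (x (Fin.natAdd n k)) * Polynomial.X ^ (k : ℕ)
  have hpU : pU.Monic := Polynomial.monic_X_pow_add (Polynomial.degree_sum_fin_lt _)
  have hpUmap : pU.map g.toRingHom = p := by
    conv_rhs => rw [hp.as_sum, ← hd, Finset.sum_range]
    simp only [pU, Polynomial.map_add, Polynomial.map_pow, Polynomial.map_X,
      Polynomial.map_sum, Polynomial.map_mul, Polynomial.map_C]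
    congr 1
    refine Finset.sum_congr rfl fun k _ => ?_
    congr 2
    show ι U (x (Fin.natAdd n k)) = _
    rw [hx, Fin.append_right]
  have hgy : Algebra.TensorProduct.map g (AlgHom.id A B) yU = y := by
    rw [hsum]
    simp only [yU, map_sum, Algebra.TensorProduct.map_tmul, AlgHom.id_apply]
    refine Finset.sum_congr rfl fun j _ => ?_
    congr 1
    show ι U (x (Fin.castAdd d j)) = _
    rw [hx, Fin.append_left]
  let z := Polynomial.eval₂ (algebraMap U.Ring (U.Ring ⊗[A] B)) yU pU
  have hz : Algebra.TensorProduct.map g (AlgHom.id A B) z = 0 := by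
    rw [map_hom_eval₂, hpUmap, hgy]
    exact hpy
  have hz' : tι B U (Algebra.TensorProduct.comm A U.Ring B z) = 0 := by
    rw [comm_map_ιAlg, hz, map_zero]
  obtain ⟨V, f, hf⟩ := exists_tmap_eq_zero B _ hz'
  have hzV : Algebra.TensorProduct.map (Nbhd.Hom.toAlgHom f) (AlgHom.id A B) z = 0 := by
    have h1 := comm_tmap B f z
    rw [hf] at h1
    exact (Algebra.TensorProduct.comm A V.Ring B).injective (by rw [← h1, map_zero])
  have hyV : IsIntegral V.Ring
      (Algebra.TensorProduct.map (Nbhd.Hom.toAlgHom f) (AlgHom.id A B) yU) :=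
    isIntegral_map_of_eval₂_eq_zero (Nbhd.Hom.toAlgHom f) pU hpU yU hzV
  obtain ⟨t, ht⟩ := (TensorProduct.toIntegralClosure_bijective_of_smooth (R := A) (S := V.Ring)
    (B := B)).2 ⟨_, hyV⟩
  have hcomp : (ιAlg V).comp (Nbhd.Hom.toAlgHom f) = g := by
    ext x
    exact ι_hom f x
  refine ⟨Algebra.TensorProduct.map (ιAlg V) (AlgHom.id A (integralClosure A B)) t,
    Subtype.ext ?_⟩
  have ht' : Algebra.TensorProduct.map (AlgHom.id V.Ring V.Ring) (integralClosure A B).val t =
      Algebra.TensorProduct.map (Nbhd.Hom.toAlgHom f) (AlgHom.id A B) yU :=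
    congrArg Subtype.val ht
  change Algebra.TensorProduct.map (AlgHom.id (G A Ω) (G A Ω)) (integralClosure A B).val
    (Algebra.TensorProduct.map (ιAlg V) (AlgHom.id A (integralClosure A B)) t) = y
  rw [← hgy, ← hcomp, map_id_comp (Nbhd.Hom.toAlgHom f) (ιAlg V), ← ht']
  clear ht ht'
  induction t with
  | zero => simp
  | tmul c w => simp
  | add u v hu hv => rw [map_add, map_add, map_add, map_add, hu, hv]

end GSurj

section Abstract

variable (A : Type u) [CommRing A] [IsLocalRing A]
  (R : Type u) [CommRing R] [IsLocalRing R] [Algebra A R] [IsLocalHom (algebraMap A R)]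
  [Hensel.IsStrictHenselization A R] (C : Type u) [CommRing C] [Algebra A C]

theorem bijective_toIntegralClosure_of_isStrictHenselization :
    Function.Bijective (TensorProduct.toIntegralClosure A R C) := by
  haveI : Module.Flat A R := flat_of_isStrictHenselization A R
  refine ⟨TensorProduct.toIntegralClosure_injective_of_flat, ?_⟩
  obtain ⟨e, -⟩ := exists_algEquiv_Model A R
  rintro ⟨y, hy⟩
  have hy' : IsIntegral (Model A R) (Algebra.TensorProduct.map e.toAlgHom (AlgHom.id A C) y) := by
    refine IsIntegral.map_of_comp_eq (e : R →+* Model A R)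
      (Algebra.TensorProduct.map e.toAlgHom (AlgHom.id A C)).toRingHom ?_ hy
    ext r
    simp [Algebra.TensorProduct.algebraMap_apply]
  obtain ⟨t, ht⟩ := surjective_toIntegralClosure_G (A := A) (Ω := IsLocalRing.ResidueField R) C
    ⟨_, hy'⟩
  have ht' : Algebra.TensorProduct.map (AlgHom.id (Model A R) (Model A R))
      (integralClosure A C).val t =
      Algebra.TensorProduct.map e.toAlgHom (AlgHom.id A C) y := congrArg Subtype.val ht
  refine ⟨Algebra.TensorProduct.map e.symm.toAlgHom (AlgHom.id A (integralClosure A C)) t,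
    Subtype.ext ?_⟩
  change Algebra.TensorProduct.map (AlgHom.id R R) (integralClosure A C).val
    (Algebra.TensorProduct.map e.symm.toAlgHom (AlgHom.id A (integralClosure A C)) t) = y
  have key : ∀ t : Model A R ⊗[A] integralClosure A C,
      Algebra.TensorProduct.map (AlgHom.id R R) (integralClosure A C).val
        (Algebra.TensorProduct.map e.symm.toAlgHom (AlgHom.id A (integralClosure A C)) t) =
      Algebra.TensorProduct.map e.symm.toAlgHom (AlgHom.id A C)
        (Algebra.TensorProduct.map (AlgHom.id (Model A R) (Model A R))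
          (integralClosure A C).val t) := by
    intro t
    induction t with
    | zero => simp
    | tmul c w => simp
    | add u v hu hv => rw [map_add, map_add, map_add, map_add, hu, hv]
  have key2 : ∀ y : R ⊗[A] C, Algebra.TensorProduct.map e.symm.toAlgHom (AlgHom.id A C)
      (Algebra.TensorProduct.map e.toAlgHom (AlgHom.id A C) y) = y := by
    intro y
    induction y with
    | zero => simp
    | tmul c w => simp
    | add u v hu hv => rw [map_add, map_add, hu, hv]
  rw [key, ht', key2]

end Abstract

section Loc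

theorem isLocalization_of_dvd {R L : Type*} [CommRing R] [CommRing L] [Algebra R L]
    (M N : Submonoid R) [IsLocalization N L] (h₁ : M ≤ N) (h₂ : ∀ n ∈ N, ∃ m ∈ M, n ∣ m) :
    IsLocalization M L := by
  refine (isLocalization_iff M L).mpr ⟨?_, ?_, ?_⟩
  · intro m
    exact IsLocalization.map_units L (⟨m.1, h₁ m.2⟩ : N)
  · intro s
    obtain ⟨⟨x, n⟩, hx⟩ := IsLocalization.surj N s
    obtain ⟨m, hm, t, rfl⟩ := h₂ n.1 n.2
    refine ⟨⟨x * t, ⟨n.1 * t, hm⟩⟩, ?_⟩
    simp only [map_mul] at hx ⊢
    rw [← mul_assoc, hx]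
  · intro x y h
    obtain ⟨c, hc⟩ := (IsLocalization.eq_iff_exists N L).mp h
    obtain ⟨m, hm, t, rfl⟩ := h₂ c.1 c.2
    refine ⟨⟨c.1 * t, hm⟩, ?_⟩
    show c.1 * t * x = c.1 * t * y
    rw [mul_right_comm, hc, mul_right_comm]

variable (A : Type u) [CommRing A] [IsDomain A] [IsLocalRing A] [IsIntegrallyClosed A]
  (R : Type u) [CommRing R] [IsLocalRing R] [Algebra A R] [IsLocalHom (algebraMap A R)]
  [Hensel.IsStrictHenselization A R]

include A in
theorem normal_R : IsDomain R ∧ IsIntegrallyClosed R :=
  (normal_iff_of_isStrictHenselization A R).mpr ⟨inferInstance, inferInstance⟩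

theorem exists_dvd_algebraMap (r : R) (hr : r ≠ 0) :
    ∃ a : A, a ≠ 0 ∧ r ∣ algebraMap A R a := by
  haveI : IsDomain R := (normal_R A R).1
  by_contra hcon0
  have hcon : ∀ a : A, a ≠ 0 → ¬ r ∣ algebraMap A R a := fun a ha hd => hcon0 ⟨a, ha, hd⟩
  have hdisj : Disjoint ((Ideal.span {r} : Ideal R) : Set R)
      (Algebra.algebraMapSubmonoid R (nonZeroDivisors A) : Set R) := by
    rw [Set.disjoint_left]
    rintro x hx ⟨a, ha, rfl⟩
    exact hcon a (nonZeroDivisors.ne_zero ha) (Ideal.mem_span_singleton.mp hx)
  obtain ⟨P, hP, hrP, hPd⟩ := Ideal.exists_le_prime_disjoint _ _ hdisj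
  haveI := hP
  haveI hbot : (⊥ : Ideal R).IsPrime := Ideal.isPrime_bot
  have hunder : (⊥ : Ideal R).under A = P.under A := by
    ext a
    show algebraMap A R a ∈ (⊥ : Ideal R) ↔ algebraMap A R a ∈ P
    constructor
    · intro h
      rw [Ideal.mem_bot.mp h]
      exact P.zero_mem
    · intro h
      by_contra ha
      have ha' : a ≠ 0 := fun h0 => ha (by rw [h0, map_zero]; exact Ideal.zero_mem _)
      exact Set.disjoint_left.mp hPd h ⟨a, mem_nonZeroDivisors_of_ne_zero ha', rfl⟩
  have hP0 := eq_of_le_of_under_eq_of_isStrictHenselization A R ⊥ P bot_le hunder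
  have hr0 : r ∈ (⊥ : Ideal R) := by
    rw [hP0]
    exact hrP (Ideal.mem_span_singleton_self r)
  exact hr (Ideal.mem_bot.mp hr0)

theorem isLocalization_fraction (L : Type u) [Field L] [Algebra R L] [IsFractionRing R L] :
    IsLocalization (Algebra.algebraMapSubmonoid R (nonZeroDivisors A)) L := by
  haveI : IsDomain R := (normal_R A R).1
  haveI := faithfullyFlat_of_isStrictHenselization A R
  have hinj : Function.Injective (algebraMap A R) := FaithfulSMul.algebraMap_injective A R
  refine isLocalization_of_dvd (Algebra.algebraMapSubmonoid R (nonZeroDivisors A))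
    (nonZeroDivisors R) ?_ ?_
  · rintro _ ⟨a, ha, rfl⟩
    exact mem_nonZeroDivisors_of_ne_zero
      ((map_ne_zero_iff _ hinj).mpr (nonZeroDivisors.ne_zero ha))
  · intro n hn
    obtain ⟨a, ha, hdvd⟩ := exists_dvd_algebraMap A R n (nonZeroDivisors.ne_zero hn)
    exact ⟨algebraMap A R a, ⟨a, mem_nonZeroDivisors_of_ne_zero ha, rfl⟩, hdvd⟩

end Loc

section Pi

variable (R L : Type u) [CommRing R] [IsDomain R] [IsIntegrallyClosed R] [Field L] [Algebra R L]
  [IsFractionRing R L] (ι : Type u) [Finite ι]

theorem nonempty_piEquiv : Nonempty ((ι → R) ≃ₐ[R] integralClosure R (ι → L)) := by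
  have hmem : ∀ y : ι → R, ((Algebra.ofId R L).compLeft ι) y ∈ integralClosure R (ι → L) := by
    intro y
    exact (Algebra.IsIntegral.isIntegral (R := R) y).map ((Algebra.ofId R L).compLeft ι)
  refine ⟨AlgEquiv.ofBijective
    (((Algebra.ofId R L).compLeft ι).codRestrict (integralClosure R (ι → L)) hmem) ⟨?_, ?_⟩⟩
  · intro y₁ y₂ h
    have h1 : ((Algebra.ofId R L).compLeft ι) y₁ = ((Algebra.ofId R L).compLeft ι) y₂ :=
      congrArg Subtype.val h
    funext i
    exact IsFractionRing.injective R L (congrFun h1 i)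
  · rintro ⟨x, hx⟩
    have hxi : ∀ i, ∃ y : R, algebraMap R L y = x i := by
      intro i
      have h1 : IsIntegral R (x i) := IsIntegral.map (Pi.evalAlgHom R (fun _ : ι => L) i) hx
      exact IsIntegrallyClosed.isIntegral_iff.mp h1
    choose y hy using hxi
    exact ⟨y, Subtype.ext (funext hy)⟩

end Pi

section LocC

theorem isLocalization_integralClosure (A K C : Type u) [CommRing A] [IsDomain A] [Field K]
    [Algebra A K] [IsFractionRing A K] [CommRing C] [Algebra K C] [Algebra A C]
    [IsScalarTower A K C] [Algebra.IsIntegral K C] :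
    IsLocalization (Algebra.algebraMapSubmonoid (integralClosure A C) (nonZeroDivisors A)) C := by
  refine (isLocalization_iff _ _).mpr ⟨?_, ?_, ?_⟩
  · rintro ⟨_, a, ha, rfl⟩
    have h1 : algebraMap (integralClosure A C) C (algebraMap A (integralClosure A C) a) =
        algebraMap K C (algebraMap A K a) := by
      rw [← IsScalarTower.algebraMap_apply A (integralClosure A C) C,
        IsScalarTower.algebraMap_apply A K C]
    show IsUnit (algebraMap (integralClosure A C) C (algebraMap A (integralClosure A C) a))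
    rw [h1]
    exact (IsUnit.mk0 _ ((map_ne_zero_iff _ (IsFractionRing.injective A K)).mpr
      (nonZeroDivisors.ne_zero ha))).map _
  · intro z
    obtain ⟨m, hm⟩ := IsIntegral.exists_multiple_integral_of_isLocalization (nonZeroDivisors A) z
      (Algebra.IsIntegral.isIntegral (R := K) z)
    refine ⟨⟨⟨m • z, hm⟩, ⟨algebraMap A (integralClosure A C) m, m, m.2, rfl⟩⟩, ?_⟩
    show z * algebraMap (integralClosure A C) C (algebraMap A (integralClosure A C) m) = m • z
    rw [← IsScalarTower.algebraMap_apply A (integralClosure A C) C, mul_comm,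
      Submonoid.smul_def, Algebra.smul_def]
  · intro x y h
    exact ⟨1, by rw [Subtype.ext h]⟩

end LocC

section Core

theorem core (A : Type u) [CommRing A] [IsDomain A] [IsLocalRing A] [IsIntegrallyClosed A]
    (R : Type u) [CommRing R] [IsLocalRing R] [Algebra A R] [IsLocalHom (algebraMap A R)]
    [Hensel.IsStrictHenselization A R]
    (K L : Type u) [Field K] [Field L] [Algebra A K] [IsFractionRing A K] [Algebra R L]
    [IsFractionRing R L] [Algebra K L] [Algebra A L] [IsScalarTower A K L] [IsScalarTower A R L]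
    (C : Type u) [CommRing C] [Algebra K C] [Algebra A C] [IsScalarTower A K C]
    (ι : Type u) [Finite ι] (ψ : L ⊗[K] C ≃ₐ[L] (ι → L)) :
    Module.Finite A (integralClosure A C) ∧ Algebra.Etale A (integralClosure A C) := by
  haveI : IsDomain R := (normal_R A R).1
  haveI : IsIntegrallyClosed R := (normal_R A R).2
  haveI : Module.FaithfullyFlat A R := faithfullyFlat_of_isStrictHenselization A R
  haveI : IsLocalization (Algebra.algebraMapSubmonoid R (nonZeroDivisors A)) L :=
    isLocalization_fraction A R L
  haveI : Algebra.IsPushout A R K L :=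
    Algebra.isPushout_of_isLocalization (nonZeroDivisors A) K R L
  let Φ : R ⊗[A] C ≃ₐ[R] (ι → L) :=
    (Algebra.IsPushout.cancelBaseChangeAlg A R K L C).symm.trans (ψ.restrictScalars R)
  let e1 : R ⊗[A] integralClosure A C ≃ₐ[R] integralClosure R (R ⊗[A] C) :=
    AlgEquiv.ofBijective _ (bijective_toIntegralClosure_of_isStrictHenselization A R C)
  let e2 : integralClosure R (R ⊗[A] C) ≃ₐ[R] integralClosure R (ι → L) := Φ.mapIntegralClosure
  obtain ⟨e3⟩ := nonempty_piEquiv R L ι
  let e : (ι → R) ≃ₐ[R] R ⊗[A] integralClosure A C := e3.trans (e2.symm.trans e1.symm)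
  haveI : Algebra.Etale R (R ⊗[A] integralClosure A C) := Algebra.Etale.of_equiv e
  haveI : Module.Finite R (R ⊗[A] integralClosure A C) := Module.Finite.equiv e.toLinearEquiv
  exact ⟨Module.Finite.of_finite_tensorProduct_of_faithfullyFlat R,
    Algebra.Etale.of_etale_tensorProduct_of_faithfullyFlat R⟩

end Core

end Groth.Agent.Helper7.SplitExt
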