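import Mathlib
import Groth.Prelude.Def_FEt
import Groth.Prelude.Def_Pi1
import Groth.Agent.Lib.Helper7.FEtAff.Dict
import Groth.Agent.Lib.Helper7.SplitExt.Alg

/-!
# Extending a finite etale cover of the generic point of a normal local domain which splits over
the fraction field of the strict henselization
-/

set_option linter.style.haveILetI false
set_option linter.unusedVariables false
set_option linter.unusedSectionVars false
set_option autoImplicit false
set_option backward.isDefEq.respectTransparency.types false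
set_option synthInstance.maxHeartbeats 400000
set_option maxHeartbeats 1600000

open CategoryTheory CategoryTheory.Limits AlgebraicGeometry TensorProduct

namespace Groth.Agent.Helper7.SplitExt

universe u

theorem isSplit_of_iso {X : Scheme.{u}} {Y Y' : FEt.Cat X} (i : Y ≅ Y') (h : Pi1.IsSplit Y) :
    Pi1.IsSplit Y' := by
  obtain ⟨ι, hι, e, he⟩ := h
  let il : Y.left ≅ Y'.left :=
    (MorphismProperty.Over.forget FEt.prop ⊤ X ⋙ CategoryTheory.Over.forget X).mapIso i
  have hw : il.hom ≫ Y'.hom = Y.hom := MorphismProperty.Over.w i.hom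
  refine ⟨ι, hι, il.symm ≪≫ e, fun j => ?_⟩
  show Sigma.ι (fun _ : ι => X) j ≫ (e.inv ≫ il.hom) ≫ Y'.hom = 𝟙 X
  rw [Category.assoc, hw]
  exact he j

theorem exists_algEquiv_of_isSplit (K L C : Type u) [Field K] [Field L] [Algebra K L] [CommRing C]
    [Algebra K C] [Module.Finite K C] [Algebra.Etale K C]
    (h : Pi1.IsSplit ((FEt.restrict (Spec.map (CommRingCat.ofHom (algebraMap K L)))).obj
      (FEtAff.ofAlg K C))) :
    ∃ (ι : Type u) (_ : Finite ι), Nonempty (L ⊗[K] C ≃ₐ[L] (ι → L)) := by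
  obtain ⟨ι, hι, e, he⟩ := h
  refine ⟨ι, hι, ?_⟩
  let fC := Spec.map (CommRingCat.ofHom (algebraMap K C))
  let gL := Spec.map (CommRingCat.ofHom (algebraMap K L))
  let e' : pullback fC gL ≅ ∐ fun _ : ι => Spec (CommRingCat.of L) := e
  have he' : ∀ i, Sigma.ι (fun _ : ι => Spec (CommRingCat.of L)) i ≫ e'.inv ≫
      pullback.snd fC gL = 𝟙 _ := he
  let θ : pullback fC gL ≅ Spec (CommRingCat.of (C ⊗[K] L)) := pullbackSpecIso K C L
  let inr : CommRingCat.of L ⟶ CommRingCat.of (C ⊗[K] L) :=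
    CommRingCat.ofHom (Algebra.TensorProduct.includeRight : L →ₐ[K] C ⊗[K] L).toRingHom
  have hθ : θ.hom ≫ Spec.map inr = pullback.snd fC gL := pullbackSpecIso_hom_snd K C L
  let σ : (∐ fun _ : ι => Spec (CommRingCat.of L)) ≅ Spec (CommRingCat.of (ι → L)) :=
    asIso (sigmaSpec (fun _ : ι => CommRingCat.of L))
  have hσ : ∀ i, Sigma.ι (fun _ : ι => Spec (CommRingCat.of L)) i ≫ σ.hom =
      Spec.map (CommRingCat.ofHom (Pi.evalRingHom (fun _ : ι => L) i)) :=
    fun i => ι_sigmaSpec (fun _ : ι => CommRingCat.of L) i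
  let ε : Spec (CommRingCat.of (ι → L)) ≅ Spec (CommRingCat.of (C ⊗[K] L)) :=
    σ.symm ≪≫ e'.symm ≪≫ θ
  let φ : CommRingCat.of (C ⊗[K] L) ⟶ CommRingCat.of (ι → L) := Spec.preimage ε.hom
  let φ' : CommRingCat.of (ι → L) ⟶ CommRingCat.of (C ⊗[K] L) := Spec.preimage ε.inv
  have hφ : Spec.map φ = ε.hom := Spec.map_preimage _
  have hφ' : Spec.map φ' = ε.inv := Spec.map_preimage _
  have h1 : φ' ≫ φ = 𝟙 _ :=
    Spec.map_injective (by rw [Spec.map_comp, hφ, hφ', Iso.hom_inv_id, Spec.map_id])
  have h2 : φ ≫ φ' = 𝟙 _ :=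
    Spec.map_injective (by rw [Spec.map_comp, hφ, hφ', Iso.inv_hom_id, Spec.map_id])
  let δ : CommRingCat.of L ⟶ CommRingCat.of (ι → L) :=
    CommRingCat.ofHom (algebraMap L (ι → L))
  have hlin : inr ≫ φ = δ := by
    apply Spec.map_injective
    rw [Spec.map_comp, hφ]
    show (σ.inv ≫ e'.inv ≫ θ.hom) ≫ Spec.map inr = Spec.map δ
    rw [Category.assoc, Category.assoc, hθ, Iso.inv_comp_eq]
    refine Sigma.hom_ext _ _ fun i => ?_
    rw [he' i, ← Category.assoc, hσ i, ← Spec.map_comp]
    have hid : δ ≫ CommRingCat.ofHom (Pi.evalRingHom (fun _ : ι => L) i) = 𝟙 _ := by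
      ext l
      rfl
    rw [hid, Spec.map_id]
  let ψ' : C ⊗[K] L ≃+* (ι → L) := RingEquiv.ofRingHom φ.hom φ'.hom
    (congrArg CommRingCat.Hom.hom h1) (congrArg CommRingCat.Hom.hom h2)
  have hψ' : ∀ l : L, ψ' ((1 : C) ⊗ₜ[K] l) = algebraMap L (ι → L) l := by
    intro l
    exact congrArg (fun t => t.hom l) hlin
  refine ⟨AlgEquiv.ofRingEquiv (f := (Algebra.TensorProduct.comm K L C).toRingEquiv.trans ψ') ?_⟩
  intro l
  show ψ' (Algebra.TensorProduct.comm K L C (algebraMap L (L ⊗[K] C) l)) = algebraMap L (ι → L) l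
  rw [Algebra.TensorProduct.algebraMap_apply, Algebra.TensorProduct.comm_tmul]
  exact hψ' l

theorem nonempty_restrict_ofAlg_iso (A K B C : Type u) [CommRing A] [CommRing K] [CommRing B]
    [CommRing C] [Algebra A K] [Algebra A B] [Algebra B C] [Algebra K C]
    [Module.Finite A B] [Algebra.Etale A B] [Module.Finite K C] [Algebra.Etale K C]
    (h : IsPushout (CommRingCat.ofHom (algebraMap A B)) (CommRingCat.ofHom (algebraMap A K))
      (CommRingCat.ofHom (algebraMap B C)) (CommRingCat.ofHom (algebraMap K C))) :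
    Nonempty ((FEt.restrict (Spec.map (CommRingCat.ofHom (algebraMap A K)))).obj
      (FEtAff.ofAlg A B) ≅ FEtAff.ofAlg K C) := by
  have hpb := isPullback_SpecMap_of_isPushout _ _ _ _ h
  have j : FEtAff.ofAlg K C ≅ (FEt.restrict (Spec.map (CommRingCat.ofHom (algebraMap A K)))).obj
      (FEtAff.ofAlg A B) :=
    MorphismProperty.Over.isoMk hpb.isoPullback hpb.isoPullback_hom_snd
  exact ⟨j.symm⟩

theorem main (A : Type u) [CommRing A] [IsDomain A]
    [IsLocalRing A] [IsIntegrallyClosed A] (R : Type u) [CommRing R] [IsLocalRing R] [Algebra A R]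
    [IsLocalHom (algebraMap A R)] [Hensel.IsStrictHenselization A R]
    (K L : Type u) [Field K] [Field L] [Algebra A K] [IsFractionRing A K] [Algebra R L]
    [IsFractionRing R L]
    [Algebra K L] [Algebra A L] [IsScalarTower A K L] [IsScalarTower A R L]
    (V : FEt.Cat (Spec (CommRingCat.of K)))
    (hV : Pi1.IsSplit ((FEt.restrict (Spec.map (CommRingCat.ofHom (algebraMap K L)))).obj V)) :
    ∃ Y : FEt.Cat (Spec (CommRingCat.of A)),
      Nonempty ((FEt.restrict (Spec.map (CommRingCat.ofHom (algebraMap A K)))).obj Y ≅ V) := by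
  obtain ⟨C, _, _, _, _, ⟨i⟩⟩ := FEtAff.exists_iso_ofAlg K V
  have hV' := isSplit_of_iso
    ((FEt.restrict (Spec.map (CommRingCat.ofHom (algebraMap K L)))).mapIso i) hV
  obtain ⟨ι, hι, ⟨ψ⟩⟩ := exists_algEquiv_of_isSplit K L C hV'
  letI : Algebra A C := ((algebraMap K C).comp (algebraMap A K)).toAlgebra
  haveI : IsScalarTower A K C := IsScalarTower.of_algebraMap_eq (fun _ => rfl)
  obtain ⟨hfin, het⟩ := core A R K L C ι ψ
  haveI := hfin
  haveI := het
  haveI : Algebra.IsIntegral K C := inferInstance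
  have hH : (algebraMap K C).comp (algebraMap A K) =
      (algebraMap (integralClosure A C) C).comp (algebraMap A (integralClosure A C)) := by
    ext a
    exact (IsScalarTower.algebraMap_apply A K C a).symm.trans
      (IsScalarTower.algebraMap_apply A (integralClosure A C) C a)
  haveI : IsLocalization ((nonZeroDivisors A).map (algebraMap A (integralClosure A C))) C :=
    isLocalization_integralClosure A K C
  have hpo := CommRingCat.isPushout_of_isLocalization (algebraMap A (integralClosure A C))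
    (algebraMap K C) hH (nonZeroDivisors A)
  obtain ⟨j⟩ := nonempty_restrict_ofAlg_iso A K (integralClosure A C) C hpo
  exact ⟨FEtAff.ofAlg A (integralClosure A C), ⟨j ≪≫ i.symm⟩⟩

end Groth.Agent.Helper7.SplitExt
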